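import Cfsg.Agent.Amalgam.SThreeBound
import Cfsg.Agent.PByCyclic.Basic

/-!
Point stabilizers of primitive groups with a suborbit of length 3, from Goldschmidt's index (3, 3) analysis.
-/

set_option autoImplicit false
open Cfsg
open scoped Pointwise
open CfsgLib.Amalgam (omegaCentre)

namespace CfsgLib.SimsThree

theorem fix_of_card_three {H X : Type*} [Group H] [MulAction H X] (h3 : Nat.card X = 3) {x : H}
    (hx : Odd (orderOf x)) {p : X} (hp : x • p = p) (q : X) : x • q = q := by
  haveI : Finite X := Nat.finite_of_card_ne_zero (by omega)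
  haveI := Fintype.ofFinite X
  obtain ⟨k, hk⟩ := hx
  have h2 : ∀ r : X, (x * x) • r = r := by
    intro r
    by_contra hne
    classical
    rw [mul_smul] at hne
    have hrp : r ≠ p := by
      rintro rfl; exact hne (by rw [hp, hp])
    have h1 : x • r ≠ r := fun h => hne (by rw [h, h])
    have h1p : x • r ≠ p := fun h => hrp (smul_left_cancel x (h.trans hp.symm))
    have h2p : x • x • r ≠ p := fun h => h1p (smul_left_cancel x (h.trans hp.symm))
    have h21 : x • x • r ≠ x • r := fun h => h1 (smul_left_cancel x h)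
    have hle := Finset.card_le_univ ({p, r, x • r, x • x • r} : Finset X)
    rw [← Nat.card_eq_fintype_card, h3] at hle
    rw [Finset.card_insert_of_notMem (by simp [hrp.symm, h1p.symm, h2p.symm]),
      Finset.card_insert_of_notMem (by simp [Ne.symm h1, Ne.symm hne]),
      Finset.card_insert_of_notMem (by simp [Ne.symm h21]), Finset.card_singleton] at hle
    omega
  have hx1 : x ∈ Subgroup.zpowers (x * x) := by
    refine ⟨(k : ℤ) + 1, ?_⟩
    show (x * x) ^ ((k : ℤ) + 1) = x
    rw [← sq, ← zpow_natCast x 2, ← zpow_mul, show ((2 : ℕ) : ℤ) * ((k : ℤ) + 1) = ((2 * k + 1 : ℕ) : ℤ) + 1 by push_cast; ring,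
      zpow_add, zpow_natCast, ← hk, pow_orderOf_eq_one, one_mul, zpow_one]
  exact (Subgroup.zpowers_le.2 (show x * x ∈ MulAction.stabilizer H q from h2 q)) hx1

variable {G : Type*} [Group G] [Finite G]

theorem odd_conj_mem {A T : Subgroup G} (hTA : T ≤ A) (hc : Nat.card A = 3 * Nat.card T) {x : G}
    (hx : x ∈ T) (hodd : Odd (orderOf x)) {u : G} (hu : u ∈ A) : u⁻¹ * x * u ∈ T := by
  have h3 : Nat.card (A ⧸ T.subgroupOf A) = 3 := by
    have h := Subgroup.card_eq_card_quotient_mul_card_subgroup (T.subgroupOf A)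
    rw [hc, Nat.card_congr (Subgroup.subgroupOfEquivOfLe hTA).toEquiv] at h
    exact (Nat.eq_of_mul_eq_mul_right Nat.card_pos h).symm
  have h1 := fix_of_card_three h3 (x := (⟨x, hTA hx⟩ : A)) (by rwa [Subgroup.orderOf_mk])
    (p := ((1 : A) : A ⧸ T.subgroupOf A))
    (by rw [MulAction.Quotient.smul_coe, smul_eq_mul, mul_one, QuotientGroup.eq, mul_one]
        exact (T.subgroupOf A).inv_mem hx)
    ((⟨u, hu⟩ : A) : A ⧸ T.subgroupOf A)
  rw [MulAction.Quotient.smul_coe, smul_eq_mul, QuotientGroup.eq, Subgroup.mem_subgroupOf] at h1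
  have h2 := T.inv_mem h1
  simpa [mul_assoc] using h2

/-- The intersection is a `2`-group. -/
theorem inter_two_group {A B : Subgroup G} (hgen : A ⊔ B = ⊤) (hfaith : ∀ N : Subgroup G, N ≤ A → N.Normal → N = ⊥)
    (hA : Nat.card A = 3 * Nat.card ↥(A ⊓ B)) (hB : Nat.card B = 3 * Nat.card ↥(A ⊓ B)) :
    IsPGroup 2 ↥(A ⊓ B) := by
  haveI := Fact.mk Nat.prime_two
  set O : Subgroup G := Subgroup.closure {x | x ∈ A ⊓ B ∧ Odd (orderOf x)} with hO
  have hOT : O ≤ A ⊓ B := (Subgroup.closure_le _).2 fun x hx => hx.1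
  have hconj : ∀ u : G, u ∈ A ∨ u ∈ B → ∀ x ∈ O, u⁻¹ * x * u ∈ O := by
    intro u hu x hx
    have hle : O ≤ O.comap (MulAut.conj u⁻¹).toMonoidHom := by
      refine (Subgroup.closure_le _).2 fun y hy => ?_
      refine Subgroup.subset_closure ⟨?_, ?_⟩
      · show u⁻¹ * y * u⁻¹⁻¹ ∈ A ⊓ B
        rw [inv_inv]
        rcases hu with hu | hu
        · exact odd_conj_mem inf_le_left hA hy.1 hy.2 hu
        · exact odd_conj_mem inf_le_right hB hy.1 hy.2 hu
      · show Odd (orderOf (MulAut.conj u⁻¹ y))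
        rw [MulEquiv.orderOf_eq]; exact hy.2
    have := hle hx
    simpa [inv_inv] using this
  have hnorm : ∀ H : Subgroup G, (∀ u ∈ H, u ∈ A ∨ u ∈ B) → H ≤ Subgroup.normalizer (O : Set G) := by
    intro H hH u hu
    refine Subgroup.mem_normalizer_iff.2 fun x => ⟨fun hx => ?_, fun hx => ?_⟩
    · have := hconj u⁻¹ ((hH u hu).imp A.inv_mem B.inv_mem) x hx
      simpa using this
    · have := hconj u (hH u hu) _ hx
      simpa [mul_assoc] using this
  have hbot : O = ⊥ := hfaith O (hOT.trans inf_le_left)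
    (Subgroup.normalizer_eq_top_iff.1 (top_le_iff.1 (hgen ▸ sup_le (hnorm A fun u hu => Or.inl hu) (hnorm B fun u hu => Or.inr hu))))
  rintro ⟨x, hx⟩
  obtain ⟨k, m, hm, hxm⟩ := Nat.exists_eq_pow_mul_and_not_dvd (orderOf_pos x).ne' 2 (by norm_num)
  refine ⟨k, Subtype.ext ?_⟩
  show x ^ 2 ^ k = 1
  have : x ^ 2 ^ k ∈ O := by
    refine Subgroup.subset_closure ⟨Subgroup.pow_mem _ hx _, ?_⟩
    rw [orderOf_pow_of_dvd (pow_ne_zero _ (by norm_num)) (hxm ▸ dvd_mul_right _ _), hxm,
      Nat.mul_div_cancel_left _ (pow_pos (by norm_num) _)]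
    exact Nat.not_even_iff_odd.1 fun h => hm h.two_dvd
  rwa [hbot, Subgroup.mem_bot] at this

theorem le_of_two_group {H : Type*} [Group H] [Finite H] {P N : Subgroup H} (hP : IsPGroup 2 P)
    (hc : Nat.card H = 3 * Nat.card P) (hN : IsPGroup 2 N) (hn : N.Normal) : N ≤ P := by
  haveI := Fact.mk Nat.prime_two
  have hsup : IsPGroup 2 ↥(P ⊔ N) := hP.to_sup_of_normal_right hN
  obtain ⟨i, hi⟩ := IsPGroup.iff_card.1 hsup
  obtain ⟨j, hj⟩ := IsPGroup.iff_card.1 hP
  have h1 : 2 ^ i ∣ 3 * 2 ^ j := hi ▸ hj ▸ hc ▸ Subgroup.card_subgroup_dvd_card _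
  have h2 : 2 ^ i ∣ 2 ^ j := (Nat.Coprime.pow_left i (by decide : Nat.Coprime 2 3)).dvd_of_dvd_mul_left h1
  have : P ⊔ N = P := (Subgroup.eq_of_le_of_card_ge le_sup_left (by rw [hi, hj]; exact Nat.le_of_dvd (by positivity) h2)).symm
  exact this ▸ le_sup_right

theorem perm_three_order_three {X : Type*} (h3 : Nat.card X = 3) {σ τ : Equiv.Perm X} (hσ : σ ^ 3 = 1) (hσ1 : σ ≠ 1)
    (hτ : τ ^ 3 = 1) (hτ1 : τ ≠ 1) : τ = σ ∨ τ * σ = 1 := by
  haveI : Finite X := Nat.finite_of_card_ne_zero (by omega)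
  let e : X ≃ Fin 3 := (Finite.equivFin X).trans (finCongr h3)
  have key : ∀ s t : Equiv.Perm (Fin 3), s ^ 3 = 1 → s ≠ 1 → t ^ 3 = 1 → t ≠ 1 → t = s ∨ t * s = 1 := by decide
  set f := e.permCongrHom
  rcases key (f σ) (f τ) (by rw [← map_pow, hσ, map_one]) (fun h => hσ1 (f.injective (h.trans (map_one f).symm)))
    (by rw [← map_pow, hτ, map_one]) (fun h => hτ1 (f.injective (h.trans (map_one f).symm))) with h | h
  · exact Or.inl (f.injective h)
  · exact Or.inr (f.injective (by rw [map_mul, h, map_one]))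

/-- The local facts at one side. -/
theorem side {A T : Subgroup G} (hTA : T ≤ A) (hT : IsPGroup 2 T) (hc : Nat.card A = 3 * Nat.card T)
    (hnn : ¬ A ≤ Subgroup.normalizer (T : Set G)) :
    Nat.card A = 6 * Nat.card (pCore 2 A) ∧ pCoreOf 2 A ≤ T ∧
      ∃ φ : A →* Equiv.Perm (A ⧸ T.subgroupOf A), φ.ker = pCore 2 A ∧ Function.Surjective φ ∧
        Nat.card (A ⧸ T.subgroupOf A) = 3 := by
  haveI := Fact.mk Nat.prime_two
  have h3 : Nat.card (A ⧸ T.subgroupOf A) = 3 := by
    have h := Subgroup.card_eq_card_quotient_mul_card_subgroup (T.subgroupOf A)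
    rw [hc, Nat.card_congr (Subgroup.subgroupOfEquivOfLe hTA).toEquiv] at h
    exact (Nat.eq_of_mul_eq_mul_right Nat.card_pos h).symm
  set T' := T.subgroupOf A with hT'
  have hT'p : IsPGroup 2 T' := hT.comap_of_injective A.subtype A.subtype_injective
  have hT'c : Nat.card A = 3 * Nat.card T' := by
    rw [hc, Nat.card_congr (Subgroup.subgroupOfEquivOfLe hTA).toEquiv]
  set φ := MulAction.toPermHom A (A ⧸ T') with hφ
  have hker : φ.ker = T'.normalCore := (Subgroup.normalCore_eq_ker _).symm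
  have hkle : φ.ker ≤ T' := hker ▸ Subgroup.normalCore_le _
  have hcore : pCore 2 A = φ.ker := by
    refine le_antisymm (hker ▸ ?_) (le_sSup ⟨inferInstance, hT'p.to_le hkle⟩)
    haveI : (pCore 2 A).Normal := Subgroup.sSup_normal _ (fun _ h => h.1)
    exact Subgroup.normal_le_normalCore.2 (le_of_two_group hT'p hT'c (CfsgLib.Amalgam.pCore_isPGroup 2 A) inferInstance)
  have hmul : Nat.card φ.range * Nat.card φ.ker = Nat.card A := by
    rw [Subgroup.card_eq_card_quotient_mul_card_subgroup φ.ker,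
      Nat.card_congr (QuotientGroup.quotientKerEquivRange φ).toEquiv]
  have h6 : Nat.card φ.range ∣ 6 := by
    have := Subgroup.card_subgroup_dvd_card φ.range
    rwa [Nat.card_perm, h3] at this
  obtain ⟨j, hj⟩ := IsPGroup.iff_card.1 hT'p
  obtain ⟨i, hi⟩ := IsPGroup.iff_card.1 (hT'p.to_le hkle)
  have h3r : 3 ∣ Nat.card φ.range := by
    have : 3 ∣ Nat.card φ.range * 2 ^ i := by rw [← hi, hmul, hT'c]; exact dvd_mul_right _ _
    exact (Nat.Coprime.pow_right i (by decide : Nat.Coprime 3 2)).dvd_of_dvd_mul_right this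
  have hr : Nat.card φ.range = 6 := by
    have hle := Nat.le_of_dvd (by norm_num) h6
    have hpos : 0 < Nat.card φ.range := Nat.card_pos
    obtain ⟨c, hcc⟩ := h3r
    rcases (show c = 1 ∨ c = 2 by omega) with rfl | rfl
    · exfalso
      have heq : φ.ker = T' := Subgroup.eq_of_le_of_card_ge hkle (by rw [hT'c] at hmul; rw [hcc] at hmul; omega)
      haveI : T'.Normal := heq ▸ inferInstance
      refine hnn fun u hu => ?_
      refine Subgroup.mem_normalizer_fintype fun x hx => ?_
      exact (inferInstance : T'.Normal).conj_mem ⟨x, hTA hx⟩ hx ⟨u, hu⟩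
    · omega
  refine ⟨by rw [hcore, ← hmul, hr], ?_, φ, hcore.symm, ?_, h3⟩
  · rintro _ ⟨y, hy, rfl⟩
    exact hkle (hcore ▸ hy)
  · rw [← MonoidHom.range_eq_top]
    refine Subgroup.eq_top_of_card_eq _ ?_
    rw [hr, Nat.card_perm, h3]; rfl

/-- An element of order `3` centralizing `O₂`, if the characteristic is not `2`. -/
theorem exists_three {A : Subgroup G} {k : ℕ} (hA : Nat.card A = 3 * 2 ^ k)
    (hn : ¬ Subgroup.centralizer (pCore 2 A : Set A) ≤ pCore 2 A) :
    ∃ d ∈ A, orderOf d = 3 ∧ ∀ q ∈ pCoreOf 2 A, d * q = q * d := by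
  haveI := Fact.mk Nat.prime_two
  haveI := Fact.mk Nat.prime_three
  haveI : (pCore 2 A).Normal := Subgroup.sSup_normal _ (fun _ h => h.1)
  set C := Subgroup.centralizer (pCore 2 A : Set A) with hC
  by_cases h3 : 3 ∣ Nat.card C
  · obtain ⟨d, hd⟩ := exists_prime_orderOf_dvd_card' (G := C) 3 h3
    refine ⟨((d : A) : G), (d : A).2, by rw [Subgroup.orderOf_coe, Subgroup.orderOf_coe, hd], ?_⟩
    rintro _ ⟨q, hq, rfl⟩
    exact (congrArg Subtype.val (d.2 q hq)).symm
  · exfalso
    have h1 : Nat.card C ∣ 3 * 2 ^ k := hA ▸ Subgroup.card_subgroup_dvd_card C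
    have h2 := (Nat.Prime.coprime_iff_not_dvd Nat.prime_three).2 h3 |>.symm.dvd_of_dvd_mul_left h1
    obtain ⟨i, -, hi⟩ := (Nat.dvd_prime_pow Nat.prime_two).1 h2
    exact hn (le_sSup ⟨inferInstance, IsPGroup.of_card hi⟩)

theorem charP_iso {A B : Subgroup G} (e : A ≃* B) (h : Subgroup.centralizer (pCore 2 A : Set A) ≤ pCore 2 A) :
    Subgroup.centralizer (pCore 2 B : Set B) ≤ pCore 2 B := by
  rw [← CfsgLib.Amalgam.map_pCore_equiv (p := 2) e]
  intro y hy
  refine ⟨e.symm y, h (fun q hq => ?_), e.apply_symm_apply y⟩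
  apply e.injective
  rw [map_mul, map_mul, e.apply_symm_apply]
  exact hy (e q) ⟨q, hq, rfl⟩

theorem le_normalizer_of_mem {A T : Subgroup G} (hTA : T ≤ A) (hc : Nat.card A = 3 * Nat.card T)
    {N : Subgroup G} (hT : T ≤ N) {d : G} (hdA : d ∈ A) (hdT : d ∉ T) (hd : d ∈ N) : A ≤ N := by
  have h1 : T ≤ A ⊓ N := le_inf hTA hT
  obtain ⟨m, hm⟩ := Subgroup.card_dvd_of_le h1
  have h2 : Nat.card T * m ∣ Nat.card T * 3 := by
    rw [← hm, mul_comm (Nat.card T) 3, ← hc]; exact Subgroup.card_dvd_of_le inf_le_left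
  have h3 : m ∣ 3 := Nat.dvd_of_mul_dvd_mul_left Nat.card_pos h2
  rcases (Nat.dvd_prime Nat.prime_three).1 h3 with rfl | rfl
  · have := Subgroup.eq_of_le_of_card_ge h1 (by rw [hm, mul_one])
    exact absurd (this ▸ Subgroup.mem_inf.2 ⟨hdA, hd⟩) hdT
  · have : A ⊓ N = A := Subgroup.eq_of_le_of_card_ge inf_le_left (by rw [hm, hc, mul_comm])
    exact this ▸ inf_le_right

/-- The five possibilities. -/
theorem stabilizer_shape {A B : Subgroup G} (hgen : A ⊔ B = ⊤) (hfaith : ∀ N : Subgroup G, N ≤ A → N.Normal → N = ⊥)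
    {g : G} (hg : A.map (MulAut.conj g).toMonoidHom = B) (hA : Nat.card A = 3 * Nat.card ↥(A ⊓ B)) :
    Nonempty (A ≃* Multiplicative (ZMod 3)) ∨ Nonempty (A ≃* Equiv.Perm (Fin 3)) ∨
      Nonempty (A ≃* DihedralGroup 6) ∨ Nonempty (A ≃* Equiv.Perm (Fin 4)) ∨
      Nonempty (A ≃* Equiv.Perm (Fin 4) × Multiplicative (ZMod 2)) := by
  haveI h2f := Fact.mk Nat.prime_two
  haveI := Fact.mk Nat.prime_three
  let e : A ≃* B := (A.equivMapOfInjective _ (MulAut.conj g).injective).trans (MulEquiv.subgroupCongr hg)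
  have hB : Nat.card B = 3 * Nat.card ↥(A ⊓ B) := by rw [← Nat.card_congr e.toEquiv, hA]
  set T := A ⊓ B with hT
  have h2 : IsPGroup 2 T := inter_two_group hgen hfaith hA hB
  obtain ⟨k, hk⟩ := IsPGroup.iff_card.1 h2
  by_cases hnA : A ≤ Subgroup.normalizer (T : Set G)
  · -- then `T` is trivial
    left
    haveI hnA' : (T.subgroupOf A).Normal := (Subgroup.normal_subgroupOf_iff_le_normalizer inf_le_left).2 hnA
    set S := (T.subgroupOf A).map e.toMonoidHom with hS
    haveI : S.Normal := hnA'.map _ e.surjective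
    have hTB : IsPGroup 2 (T.subgroupOf B) := h2.comap_of_injective B.subtype B.subtype_injective
    have hle : S ≤ T.subgroupOf B := le_of_two_group hTB
      (by rw [hB, Nat.card_congr (Subgroup.subgroupOfEquivOfLe (inf_le_right : T ≤ B)).toEquiv])
      ((h2.comap_of_injective A.subtype A.subtype_injective).map _) inferInstance
    have heq : S = T.subgroupOf B := Subgroup.eq_of_le_of_card_ge hle (by
      rw [hS, Subgroup.card_map_of_injective (f := e.toMonoidHom) e.injective,
        Nat.card_congr (Subgroup.subgroupOfEquivOfLe (inf_le_left : T ≤ A)).toEquiv,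
        Nat.card_congr (Subgroup.subgroupOfEquivOfLe (inf_le_right : T ≤ B)).toEquiv])
    have hnB : B ≤ Subgroup.normalizer (T : Set G) :=
      (Subgroup.normal_subgroupOf_iff_le_normalizer inf_le_right).1 (heq ▸ inferInstance)
    have hbot : T = ⊥ := hfaith T inf_le_left
      (Subgroup.normalizer_eq_top_iff.1 (top_le_iff.1 (hgen ▸ sup_le hnA hnB)))
    rw [hbot, Subgroup.card_bot, mul_one] at hA
    exact ⟨mulEquivOfPrimeCardEq hA (by rw [Nat.card_congr Multiplicative.toAdd, Nat.card_zmod])⟩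
  have hnB : ¬ B ≤ Subgroup.normalizer (T : Set G) := by
    intro hnB
    refine hnA ?_
    haveI hnB' : (T.subgroupOf B).Normal := (Subgroup.normal_subgroupOf_iff_le_normalizer inf_le_right).2 hnB
    set S := (T.subgroupOf B).map e.symm.toMonoidHom with hS
    haveI : S.Normal := hnB'.map _ e.symm.surjective
    have hTA : IsPGroup 2 (T.subgroupOf A) := h2.comap_of_injective A.subtype A.subtype_injective
    have hle : S ≤ T.subgroupOf A := le_of_two_group hTA
      (by rw [hA, Nat.card_congr (Subgroup.subgroupOfEquivOfLe (inf_le_left : T ≤ A)).toEquiv])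
      ((h2.comap_of_injective B.subtype B.subtype_injective).map _) inferInstance
    have heq : S = T.subgroupOf A := Subgroup.eq_of_le_of_card_ge hle (by
      rw [hS, Subgroup.card_map_of_injective (f := e.symm.toMonoidHom) e.symm.injective,
        Nat.card_congr (Subgroup.subgroupOfEquivOfLe (inf_le_left : T ≤ A)).toEquiv,
        Nat.card_congr (Subgroup.subgroupOfEquivOfLe (inf_le_right : T ≤ B)).toEquiv])
    exact (Subgroup.normal_subgroupOf_iff_le_normalizer inf_le_left).1 (heq ▸ inferInstance)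
  obtain ⟨hA6, hQA, φ, hφker, hφsur, hφ3⟩ := side inf_le_left h2 hA hnA
  obtain ⟨hB6, hQB, -⟩ := side inf_le_right h2 hB hnB
  have hTpos : 0 < Nat.card T := Nat.card_pos
  have hpair : CfsgLib.Amalgam.SThreePair A B :=
    { pair := ⟨hgen, fun h => by have h1 : T = B := by rw [hT, h, top_inf_eq]
                                 rw [h1] at hB
                                 have : 0 < Nat.card B := Nat.card_pos
                                 omega,
              fun h => by have h1 : T = A := by rw [hT, h, inf_top_eq]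
                          rw [h1] at hA
                          have : 0 < Nat.card A := Nat.card_pos
                          omega,
              fun N hN hn => hfaith N (hN.trans inf_le_left) hn⟩
      finite₁ := inferInstance
      finite₂ := inferInstance
      two := h2
      card₁ := hA
      card₂ := hB
      core₁ := hA6
      core₂ := hB6 }
  by_cases pA : Subgroup.centralizer (pCore 2 A : Set A) ≤ pCore 2 A
  · have pB := charP_iso e pA
    -- an element carrying `(A, T)` to `(B, T)`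
    obtain ⟨h, hhA, hhT⟩ : ∃ h : G, A.map (MulAut.conj h).toMonoidHom = B ∧ T.map (MulAut.conj h).toMonoidHom = T := by
      have hTg : T.map (MulAut.conj g).toMonoidHom ≤ B := hg ▸ Subgroup.map_mono inf_le_left
      set P1 := (T.map (MulAut.conj g).toMonoidHom).subgroupOf B with hP1
      set P2 := T.subgroupOf B with hP2
      have hBc : Nat.card B = 3 * 2 ^ k := by rw [hB, hk]
      have hfac : (Nat.card B).factorization 2 = k := by
        rw [hBc, Nat.factorization_mul (by norm_num) (pow_ne_zero _ (by norm_num)),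
          Nat.Prime.factorization_pow Nat.prime_two, Nat.Prime.factorization Nat.prime_three]
        simp
      have hc1 : Nat.card P1 = 2 ^ (Nat.card B).factorization 2 := by
        rw [hP1, Nat.card_congr (Subgroup.subgroupOfEquivOfLe hTg).toEquiv,
          Subgroup.card_map_of_injective (f := (MulAut.conj g).toMonoidHom) (MulAut.conj g).injective, hk, hfac]
      have hc2 : Nat.card P2 = 2 ^ (Nat.card B).factorization 2 := by
        rw [hP2, Nat.card_congr (Subgroup.subgroupOfEquivOfLe (inf_le_right : T ≤ B)).toEquiv, hk, hfac]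
      obtain ⟨y, hy⟩ := MulAction.exists_smul_eq B (Sylow.ofCard P1 hc1) (Sylow.ofCard P2 hc2)
      refine ⟨(y : G) * g, ?_, ?_⟩
      · rw [map_mul]
        show A.map ((MulAut.conj (y : G)).toMonoidHom.comp (MulAut.conj g).toMonoidHom) = B
        rw [← Subgroup.map_map, hg]
        ext x
        refine ⟨?_, fun hx => ⟨(y : G)⁻¹ * x * y, B.mul_mem (B.mul_mem (B.inv_mem y.2) hx) y.2, by simp [mul_assoc]⟩⟩
        rintro ⟨x, hx, rfl⟩
        exact B.mul_mem (B.mul_mem y.2 hx) (B.inv_mem y.2)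
      · rw [map_mul]
        show T.map ((MulAut.conj (y : G)).toMonoidHom.comp (MulAut.conj g).toMonoidHom) = T
        rw [← Subgroup.map_map]
        have h1 := congrArg (fun S : Sylow 2 B => ((S : Subgroup B)).map B.subtype) hy
        simp only [Sylow.coe_subgroup_smul, Sylow.coe_ofCard] at h1
        rw [hP2, Subgroup.subgroupOf_map_subtype, inf_eq_left.2 (inf_le_right : T ≤ B)] at h1
        refine Eq.trans ?_ h1
        ext x
        constructor
        · rintro ⟨z, hz, rfl⟩
          refine ⟨MulAut.conj y ⟨z, hTg hz⟩, ?_, rfl⟩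
          exact Subgroup.smul_mem_pointwise_smul (⟨z, hTg hz⟩ : B) (MulAut.conj y) P1 hz
        · rintro ⟨z, hz, rfl⟩
          obtain ⟨w, hw, rfl⟩ := hz
          exact ⟨w, hw, rfl⟩
    have himg : (omegaCentre 2 T).map (MulAut.conj h).toMonoidHom = omegaCentre 2 T := by
      rw [CfsgLib.Amalgam.map_omegaCentre (MulAut.conj h) T, hhT]
    have hΩ : ∀ x ∈ omegaCentre 2 T, h * x * h⁻¹ ∈ omegaCentre 2 T := fun x hx => himg ▸ ⟨x, hx, rfl⟩
    have hiff : A ≤ Subgroup.centralizer (omegaCentre 2 T : Set G) ↔ B ≤ Subgroup.centralizer (omegaCentre 2 T : Set G) := by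
      constructor
      · intro hc b hb
        rw [← hhA] at hb
        obtain ⟨a, ha, rfl⟩ := hb
        intro x hx
        rw [← himg] at hx
        obtain ⟨y, hy, rfl⟩ := hx
        rw [← map_mul, ← map_mul, hc ha y hy]
      · intro hc a ha x hx
        have h1 := hc (hhA ▸ ⟨a, ha, rfl⟩ : MulAut.conj h a ∈ B) (MulAut.conj h x) (hΩ x hx)
        rw [← map_mul, ← map_mul] at h1
        exact (MulAut.conj h).injective h1
    by_cases aA : A ≤ Subgroup.centralizer (omegaCentre 2 T : Set G)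
    · exact (hpair.not_both_central aA (hiff.1 aA)).elim
    have act : CfsgLib.Amalgam.SThreeActive A B :=
      { hpair with charP₁ := pA, charP₂ := pB, active₁ := aA, active₂ := fun hh => aA (hiff.2 hh) }
    rcases act.groups with ⟨e1, -⟩ | ⟨⟨e1⟩, -⟩
    · exact Or.inr (Or.inr (Or.inr (Or.inl e1)))
    · exact Or.inr (Or.inr (Or.inr (Or.inr ⟨e1.trans MulEquiv.prodComm⟩)))
  -- characteristic not `2`
  have pB : ¬ Subgroup.centralizer (pCore 2 B : Set B) ≤ pCore 2 B := fun h => pA (charP_iso e.symm h)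
  obtain ⟨d, hdA, hd3, hdQ⟩ := exists_three (A := A) (k := k) (by rw [hA, hk]) pA
  obtain ⟨d', hdB, hd3', hdQ'⟩ := exists_three (A := B) (k := k) (by rw [hB, hk]) pB
  have hnot : ∀ x : G, orderOf x = 3 → x ∉ T := by
    intro x hx hxT
    obtain ⟨i, hi⟩ := IsPGroup.iff_orderOf.1 h2 ⟨x, hxT⟩
    rw [Subgroup.orderOf_mk, hx] at hi
    rcases i with _ | i
    · simp at hi
    · rw [pow_succ] at hi; omega
  set QA := pCoreOf 2 A with hQAdef
  set QB := pCoreOf 2 B with hQBdef
  have hTn : T ≤ Subgroup.normalizer ((QA ⊓ QB : Subgroup G) : Set G) := fun t ht =>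
    Subgroup.mem_normalizer_fintype fun x hx =>
      ⟨CfsgLib.Amalgam.conj_mem_pCoreOf ht.1 hx.1, CfsgLib.Amalgam.conj_mem_pCoreOf ht.2 hx.2⟩
  have hdn : d ∈ Subgroup.normalizer ((QA ⊓ QB : Subgroup G) : Set G) :=
    Subgroup.mem_normalizer_fintype fun x hx => by
      show d * x * d⁻¹ ∈ QA ⊓ QB
      rwa [hdQ x hx.1, mul_inv_cancel_right]
  have hdn' : d' ∈ Subgroup.normalizer ((QA ⊓ QB : Subgroup G) : Set G) :=
    Subgroup.mem_normalizer_fintype fun x hx => by
      show d' * x * d'⁻¹ ∈ QA ⊓ QB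
      rwa [hdQ' x hx.2, mul_inv_cancel_right]
  have hbot : QA ⊓ QB = ⊥ := hfaith _ ((inf_le_left.trans hQA).trans inf_le_left)
    (Subgroup.normalizer_eq_top_iff.1 (top_le_iff.1 (hgen ▸ sup_le
      (le_normalizer_of_mem inf_le_left hA hTn hdA (hnot d hd3) hdn)
      (le_normalizer_of_mem inf_le_right hB hTn hdB (hnot d' hd3') hdn'))))
  have hcA : Nat.card QA = Nat.card (pCore 2 A) := Subgroup.card_map_of_injective A.subtype_injective
  have hcB : Nat.card QB = Nat.card (pCore 2 B) := Subgroup.card_map_of_injective B.subtype_injective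
  let μ : QA × QB → T := fun x => ⟨(x.1 : G) * x.2, T.mul_mem (hQA x.1.2) (hQB x.2.2)⟩
  have hμ : Function.Injective μ := by
    rintro ⟨a, b⟩ ⟨a', b'⟩ h
    have h1 : (a : G) * b = a' * b' := congrArg Subtype.val h
    have h2 : (a' : G)⁻¹ * a = b' * (b : G)⁻¹ := by
      rw [inv_mul_eq_iff_eq_mul, ← mul_assoc, eq_mul_inv_iff_mul_eq]; exact h1
    have h3 : (a' : G)⁻¹ * a ∈ QA ⊓ QB :=
      ⟨QA.mul_mem (QA.inv_mem a'.2) a.2, h2 ▸ QB.mul_mem b'.2 (QB.inv_mem b.2)⟩
    rw [hbot, Subgroup.mem_bot] at h3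
    have ha : a = a' := Subtype.ext (inv_mul_eq_one.1 h3).symm
    subst ha
    have hb : b = b' := Subtype.ext (mul_left_cancel h1)
    subst hb
    rfl
  have hle := Nat.card_le_card_of_injective μ hμ
  rw [Nat.card_prod, hcA, hcB] at hle
  have hqq : Nat.card (pCore 2 A) = Nat.card (pCore 2 B) := by omega
  rw [← hqq] at hle
  have hq2 : Nat.card (pCore 2 A) ≤ 2 := by
    have hT2 : Nat.card T = 2 * Nat.card (pCore 2 A) := by omega
    rw [hT2] at hle
    exact Nat.le_of_mul_le_mul_right hle Nat.card_pos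
  have hpos : 0 < Nat.card (pCore 2 A) := Nat.card_pos
  by_cases hq1 : Nat.card (pCore 2 A) = 1
  · right; left
    have hker : φ.ker = ⊥ := by rw [hφker]; exact Subgroup.card_eq_one.1 hq1
    have e1 : A ≃* Equiv.Perm (A ⧸ T.subgroupOf A) :=
      MulEquiv.ofBijective φ ⟨(MonoidHom.ker_eq_bot_iff φ).1 hker, hφsur⟩
    haveI : Finite (A ⧸ T.subgroupOf A) := inferInstance
    exact ⟨e1.trans ((Finite.equivFin _).trans (finCongr hφ3)).permCongrHom⟩
  right; right; left
  have hq : Nat.card (pCore 2 A) = 2 := by omega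
  have hT4 : Nat.card T = 4 := by omega
  have hμb : Function.Bijective μ := (Nat.bijective_iff_injective_and_card μ).2 ⟨hμ, by
    rw [Nat.card_prod, hcA, hcB, ← hqq, hq, hT4]⟩
  have hQ2 : ∀ (Q : Subgroup G), Nat.card Q = 2 → ∀ x ∈ Q, x * x = 1 := by
    intro Q hQ x hx
    have h := orderOf_dvd_natCard (⟨x, hx⟩ : Q)
    rw [hQ, Subgroup.orderOf_mk] at h
    rw [← sq]; exact orderOf_dvd_iff_pow_eq_one.1 h
  have hTsq : ∀ t ∈ T, t * t = 1 := by
    intro t ht
    obtain ⟨⟨a, b⟩, hab⟩ := hμb.2 ⟨t, ht⟩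
    have hab : (a : G) * b = t := congrArg Subtype.val hab
    have haT := hQA a.2
    have hbT := hQB b.2
    have h1 : (a : G) * b * (a : G)⁻¹ ∈ QB := CfsgLib.Amalgam.conj_mem_pCoreOf haT.2 b.2
    have hcom : (a : G) * b * (a : G)⁻¹ * (b : G)⁻¹ ∈ QA ⊓ QB := by
      refine ⟨?_, QB.mul_mem h1 (QB.inv_mem b.2)⟩
      rw [mul_assoc, mul_assoc]
      refine QA.mul_mem a.2 ?_
      rw [← mul_assoc]
      exact CfsgLib.Amalgam.conj_mem_pCoreOf hbT.1 (QA.inv_mem a.2)
    rw [hbot, Subgroup.mem_bot, mul_inv_eq_one, mul_inv_eq_iff_eq_mul] at hcom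
    rw [← hab, show (a : G) * b * (a * b) = a * (b * a) * b by group, ← hcom,
      show (a : G) * (a * b) * b = (a * a) * (b * b) by group,
      hQ2 QA (hcA.trans hq) a a.2, hQ2 QB (hcB.trans (hqq ▸ hq)) b b.2, one_mul]
  obtain ⟨z, hzQ, hz1⟩ : ∃ z ∈ QA, z ≠ 1 := by
    refine (Subgroup.bot_or_exists_ne_one QA).resolve_left fun h => ?_
    rw [h, Subgroup.card_bot] at hcA
    omega
  obtain ⟨t, htT, htQ⟩ : ∃ t ∈ T, t ∉ QA := by
    by_contra h
    push Not at h
    have := Nat.le_of_dvd Nat.card_pos (Subgroup.card_dvd_of_le (show T ≤ QA from h))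
    omega
  have hz2 : orderOf z = 2 := orderOf_eq_prime (by rw [sq]; exact hQ2 QA (hcA.trans hq) z hzQ) hz1
  have hzd : Commute z d := (hdQ z hzQ).symm
  have hao : orderOf (z * d) = 6 := by
    rw [hzd.orderOf_mul_eq_mul_orderOf_of_coprime (by rw [hz2, hd3]; decide), hz2, hd3]
  have hzt : t * z = z * t := by
    have h1 := hTsq _ (T.mul_mem htT (hQA hzQ))
    calc t * z = (t * z)⁻¹ := (inv_eq_of_mul_eq_one_right h1).symm
      _ = z * t := by rw [mul_inv_rev, inv_eq_of_mul_eq_one_right (hTsq t htT), inv_eq_of_mul_eq_one_right (hTsq z (hQA hzQ))]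
  have htd : t * d ≠ d * t := by
    intro h
    refine hnA (le_normalizer_of_mem inf_le_left hA Subgroup.le_normalizer hdA (hnot d hd3)
      (Subgroup.mem_normalizer_fintype fun x hx => ?_))
    have : x ∈ Subgroup.centralizer ({d} : Set G) := by
      have hsub : T ≤ Subgroup.centralizer ({d} : Set G) := by
        intro s hs
        have hS : QA ⊔ Subgroup.zpowers t ≤ Subgroup.centralizer ({d} : Set G) := sup_le
          (fun q hq => Subgroup.mem_centralizer_singleton_iff.2 (hdQ q hq).symm)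
          (Subgroup.zpowers_le.2 (Subgroup.mem_centralizer_singleton_iff.2 h))
        have hle : QA ⊔ Subgroup.zpowers t ≤ T := sup_le hQA (Subgroup.zpowers_le.2 htT)
        have heq : QA ⊔ Subgroup.zpowers t = T := by
          refine Subgroup.eq_of_le_of_card_ge hle ?_
          obtain ⟨m, hm⟩ := Subgroup.card_dvd_of_le (le_sup_left : QA ≤ QA ⊔ Subgroup.zpowers t)
          have hm1 : m ≠ 1 := by
            rintro rfl
            have h1 := Subgroup.eq_of_le_of_card_ge (le_sup_left : QA ≤ QA ⊔ Subgroup.zpowers t) (by rw [hm, mul_one])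
            exact htQ (h1 ▸ (Subgroup.mem_sup_right (Subgroup.mem_zpowers t) : t ∈ QA ⊔ Subgroup.zpowers t))
          have hm0 : 0 < Nat.card ↥(QA ⊔ Subgroup.zpowers t) := Nat.card_pos
          rw [hT4, hm, hcA, hq]
          rw [hm] at hm0
          rcases m with _ | _ | m
          · simp at hm0
          · exact absurd rfl hm1
          · omega
        exact hS (heq ▸ hs)
      exact hsub hx
    show d * x * d⁻¹ ∈ T
    rwa [← Subgroup.mem_centralizer_singleton_iff.1 this, mul_inv_cancel_right]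
  have hinv : t * d * t⁻¹ = d⁻¹ := by
    set u := t * d * t⁻¹ with hu
    have hut : u = MulAut.conj t d := rfl
    have hu3 : orderOf u = 3 := by rw [hut, MulEquiv.orderOf_eq, hd3]
    have huA : u ∈ A := A.mul_mem (A.mul_mem htT.1 hdA) (A.inv_mem htT.1)
    have himg : ∀ x (hx : x ∈ A), orderOf x = 3 → φ ⟨x, hx⟩ ^ 3 = 1 ∧ φ ⟨x, hx⟩ ≠ 1 := by
      intro x hx hx3
      refine ⟨by rw [← map_pow, show (⟨x, hx⟩ : A) ^ 3 = 1 from Subtype.ext (by
        show x ^ 3 = 1
        rw [← hx3, pow_orderOf_eq_one]), map_one], fun h => ?_⟩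
      exact hnot x hx3 (hQA ⟨⟨x, hx⟩, hφker ▸ h, rfl⟩)
    have huz : Commute u z := by
      have h1 : u * z * u⁻¹ = z := by
        calc u * z * u⁻¹ = t * (d * (t⁻¹ * (z * t))) * d⁻¹ * t⁻¹ := by rw [hu]; group
          _ = t * (d * z) * d⁻¹ * t⁻¹ := by rw [← hzt, inv_mul_cancel_left]
          _ = t * z * t⁻¹ := by rw [hdQ z hzQ]; group
          _ = z := by rw [hzt, mul_inv_cancel_right]
      exact mul_inv_eq_iff_eq_mul.1 h1
    have hzonly : ∀ x ∈ QA, x = 1 ∨ x = z := by
      intro x hx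
      by_contra h
      push Not at h
      have h2 := hcA.trans hq
      rw [Nat.card_eq_two_iff' (⟨1, QA.one_mem⟩ : QA)] at h2
      obtain ⟨w, -, hw⟩ := h2
      exact h.2 (congrArg Subtype.val ((hw ⟨x, hx⟩ (fun hh => h.1 (congrArg Subtype.val hh))).trans
        (hw ⟨z, hzQ⟩ (fun hh => hz1 (congrArg Subtype.val hh))).symm))
    obtain ⟨h1, h1'⟩ := himg d hdA hd3
    obtain ⟨h2, h2'⟩ := himg u huA hu3
    rcases perm_three_order_three hφ3 h1 h1' h2 h2' with heq | heq
    · exfalso
      have hk1 : (⟨d, hdA⟩ : A)⁻¹ * ⟨u, huA⟩ ∈ pCore 2 A := by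
        rw [← hφker, MonoidHom.mem_ker, map_mul, map_inv, heq, inv_mul_cancel]
      rcases hzonly (d⁻¹ * u) ⟨_, hk1, rfl⟩ with hx | hx
      · exact htd (mul_inv_eq_iff_eq_mul.1 (inv_mul_eq_one.1 hx).symm)
      · have hu' : u = z * d := (inv_mul_eq_iff_eq_mul.1 hx).trans hzd.eq.symm
        rw [hu', hao] at hu3
        omega
    · have hk1 : (⟨u, huA⟩ : A) * ⟨d, hdA⟩ ∈ pCore 2 A := by
        rw [← hφker, MonoidHom.mem_ker, map_mul, heq]
      rcases hzonly (u * d) ⟨_, hk1, rfl⟩ with hx | hx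
      · exact eq_inv_of_mul_eq_one_left hx
      · exfalso
        have hu' : u = z * d⁻¹ := eq_mul_inv_iff_mul_eq.2 hx
        have h6 : orderOf (z * d⁻¹) = 6 := by
          rw [hzd.inv_right.orderOf_mul_eq_mul_orderOf_of_coprime (by rw [hz2, orderOf_inv, hd3]; decide), hz2, orderOf_inv, hd3]
        rw [hu', h6] at hu3
        omega
  refine CfsgLib.PByCyclic.equiv_dihedral (m := 6) (z * d) t (A.mul_mem (hQA hzQ).1 hdA) htT.1 hao (hTsq t htT) ?_ ?_ (by omega)
  · intro hh
    refine htd ?_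
    obtain ⟨i, hi⟩ := hh
    have hi : (z * d) ^ i = t := hi
    rw [← hi]
    exact ((Commute.mul_left hzd (Commute.refl d)).zpow_left i).eq
  · calc t * (z * d) * t⁻¹ = (t * z) * t⁻¹ * (t * d * t⁻¹) := by group
      _ = z * d⁻¹ := by rw [hzt, mul_inv_cancel_right, hinv]
      _ = (z * d)⁻¹ := by rw [mul_inv_rev, (hzd.inv_inv).eq.symm, inv_eq_of_mul_eq_one_right (hQ2 QA (hcA.trans hq) z hzQ)]

/-- Application to primitive groups. -/
theorem primitive_shape {Ω : Type*} [MulAction G Ω] [FaithfulSMul G Ω]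
    (hprim : MulAction.IsPreprimitive G Ω) (a b : Ω)
    (h3 : Nat.card (MulAction.orbit (MulAction.stabilizer G a) b) = 3) :
    Nonempty (MulAction.stabilizer G a ≃* Multiplicative (ZMod 3)) ∨
    Nonempty (MulAction.stabilizer G a ≃* Equiv.Perm (Fin 3)) ∨
      Nonempty (MulAction.stabilizer G a ≃* DihedralGroup 6) ∨
      Nonempty (MulAction.stabilizer G a ≃* Equiv.Perm (Fin 4)) ∨
      Nonempty (MulAction.stabilizer G a ≃* Equiv.Perm (Fin 4) × Multiplicative (ZMod 2)) := by
  haveI := hprim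
  have hab : b ≠ a := by
    rintro rfl
    have hs : ∀ x : MulAction.orbit (MulAction.stabilizer G b) b, (x : Ω) = b := by
      rintro ⟨_, ⟨u, rfl⟩⟩; exact u.2
    haveI : Subsingleton (MulAction.orbit (MulAction.stabilizer G b) b) :=
      ⟨fun x y => Subtype.ext ((hs x).trans (hs y).symm)⟩
    rw [Nat.card_of_subsingleton (⟨b, MulAction.mem_orbit_self _⟩ : MulAction.orbit (MulAction.stabilizer G b) b)] at h3
    omega
  haveI : Nontrivial Ω := ⟨⟨b, a, hab⟩⟩
  set A := MulAction.stabilizer G a with hA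
  set B := MulAction.stabilizer G b with hB
  have hmax : IsCoatom A := MulAction.IsPreprimitive.isCoatom_stabilizer_of_isPreprimitive G a
  obtain ⟨g, hg⟩ := MulAction.exists_smul_eq G a b
  have hmap : A.map (MulAut.conj g).toMonoidHom = B := by
    rw [hA, hB, ← hg, MulAction.stabilizer_smul_eq_stabilizer_map_conj]
  have hcard : Nat.card A = 3 * Nat.card ↥(A ⊓ B) := by
    rw [Subgroup.card_eq_card_quotient_mul_card_subgroup ((A ⊓ B).subgroupOf A),
      Nat.card_congr (Subgroup.subgroupOfEquivOfLe (inf_le_left : A ⊓ B ≤ A)).toEquiv]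
    congr 1
    rw [← h3]
    have hs : MulAction.stabilizer A b = (A ⊓ B).subgroupOf A := by
      ext x
      simp [Subgroup.mem_subgroupOf, hB, MulAction.mem_stabilizer_iff, Subgroup.smul_def]
    rw [← hs]
    exact (Nat.card_congr (MulAction.orbitEquivQuotientStabilizer A b)).symm
  have hne : ¬ B ≤ A := by
    intro hle
    have h1 : A ⊓ B = B := inf_eq_right.2 hle
    rw [h1, ← hmap, Subgroup.card_map_of_injective (f := (MulAut.conj g).toMonoidHom) (MulAut.conj g).injective] at hcard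
    have : 0 < Nat.card A := Nat.card_pos
    omega
  refine stabilizer_shape (hmax.2 _ (lt_of_le_of_ne le_sup_left fun h => hne (h ▸ le_sup_right))) ?_ hmap hcard
  intro N hN hn
  rw [Subgroup.eq_bot_iff_forall]
  intro x hx
  refine eq_of_smul_eq_smul (α := Ω) fun w => ?_
  obtain ⟨u, rfl⟩ := MulAction.exists_smul_eq G a w
  have h1 := hN (hn.conj_mem x hx u⁻¹)
  rw [hA, MulAction.mem_stabilizer_iff, inv_inv, mul_smul, mul_smul, inv_smul_eq_iff] at h1
  rw [one_smul, h1]

end CfsgLib.SimsThree
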